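import Groth.Agent.Refuted.K616.StmtDef
import Groth.Agent.SGA3t2b.K672.Core
import Groth.Agent.SGA3t2b.K270.E1

/-!
# `S8381` is false if some `μ_p` embeds into an abelian variety over an algebraically closed field of characteristic `p`
-/

set_option autoImplicit false
universe u
open CategoryTheory MonoidalCategory CartesianMonoidalCategory MonObj GrpObj AlgebraicGeometry

namespace Groth.Agent.Refuted.S8381

/-- `S8381` is false if some `μ_p` (the kernel `n` of the `p`-th power on `𝔾_m`) embeds into a smooth proper commutative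
group scheme `A` over an algebraically closed field `k` of characteristic `p`. -/
theorem not_stmt_of (k : Type u) [Field k] [IsAlgClosed k] (p : ℕ) [Fact p.Prime] [CharP k p]
    (A N : Over (Spec (CommRingCat.of k))) [GrpObj A] [GrpObj N] [IsProper A.hom] [Smooth A.hom] [IsCommMonObj A]
    (n : N ⟶ Red.Gm (Spec (CommRingCat.of k))) [IsMonHom n]
    (hn : AlgGrp.IsKernel n ((𝟙 (Red.Gm (Spec (CommRingCat.of k)))) ^ p)) (m : N ⟶ A) [IsMonHom m] [Mono m] :
    ¬ Stmt.{u} := by
  intro H
  obtain ⟨C, _, _, _, _, i, _, hT, χ, _, h0, h1⟩ := K270.E1.exists_data k p A N n hn m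
  obtain ⟨G, _, _, _, j, _, hj, L, _, _, _, M, hM⟩ :=
    Groth.Agent.SGA3t2b.K672.Core.core k C (Red.Gm (Spec (CommRingCat.of k))) (fun X a b => mul_comm a b) i hT χ h0 h1
  have : Infinite k := IsAlgClosed.instInfinite
  obtain ⟨w, hw⟩ := H k G (Red.Gm (Spec (CommRingCat.of k))) j hj L M
  exact hM w hw

end Groth.Agent.Refuted.S8381
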