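import Groth.Agent.Refuted.K616.HesseDef
import Groth.Agent.ModFun.K590.CubicCurve
import Groth.Agent.Curves.K318.PlaneCurve
import Groth.Agent.Neron.K485.EllComm
import Groth.Agent.S7840
import Groth.Agent.S7916

/-!
# The Hesse cubic in characteristic three is an elliptic curve
-/

set_option autoImplicit false
universe u
open CategoryTheory CategoryTheory.Limits MonoidalCategory AlgebraicGeometry

namespace Groth.Agent.Refuted.K616

theorem hesse_eq_cub (k : Type u) [Field k] : hesse k = K590.Forms.cub 1 1 1 (-1) := by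
  refine Subtype.ext ?_
  rw [K590.Forms.cub_val, hesse_val]
  simp only [map_one, map_neg]
  ring

theorem jac_hesse (k : Type u) [Field k] [CharP k 3] : K590.Forms.Jac (hesse k) := by
  rw [hesse_eq_cub]
  refine K590.Forms.jac_cub one_ne_zero one_ne_zero one_ne_zero (neg_ne_zero.2 one_ne_zero) ?_
  have h : ((3 : ℕ) : k) = 0 := CharP.cast_eq_zero k 3
  have h27 : (27 : k) = 0 := by
    have : (27 : k) = ((3 : ℕ) : k) * 9 := by norm_num
    rw [this, h, zero_mul]
  rw [h27]
  norm_num

theorem PC : K590.CubicCurve.PC.{u} := by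
  intro k _ G hG
  let _ : ((LefPen.hypIdeal G).subscheme).Over (Spec (CommRingCat.of k)) := ⟨K590.CubicCurve.str G⟩
  have h := Groth.Agent.S7840.result k 3 (by norm_num) G hG rfl
  exact ⟨h.2.1, h.2.2⟩

theorem P1a (k : Type u) [Field k] [Infinite k] [CharP k 3] :
    IsProper (C k).hom ∧ Smooth (C k).hom ∧ GeometricallyIrreducible (C k).hom ∧
      topologicalKrullDim (C k).left = 1 ∧
      Module.finrank k (Coh.HH (C k).left (Coh.structureModule (C k).left) 1) = 1 :=
  ⟨K590.CubicCurve.isProper_str _, K590.CubicCurve.smooth_str (jac_hesse k),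
    K590.CubicCurve.geometricallyIrreducible_str PC (jac_hesse k),
    K590.CubicCurve.topologicalKrullDim_eq_one PC (K590.CubicCurve.ne_zero_of_jac (jac_hesse k)),
    (PC k (hesse k) (K590.CubicCurve.ne_zero_of_jac (jac_hesse k))).2⟩

/-- every point of the Hesse cubic is the unit of a commutative group structure -/
theorem exists_grp (k : Type u) [Field k] [Infinite k] [CharP k 3]
    (o : 𝟙_ (Over (Spec (CommRingCat.of k))) ⟶ C k) :
    ∃ G : GrpObj (C k), @MonObj.one _ _ _ (C k) G.toMonObj = o ∧ @IsCommMonObj _ _ _ _ (C k) G.toMonObj := by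
  obtain ⟨_, _, _, h1, h2⟩ := P1a k
  exact Groth.Agent.S7916.result k (C k) h1 h2 o

end Groth.Agent.Refuted.K616
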