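import Groth.Agent.Sga3B.RG.BrDiag
import Groth.Agent.SGA7.K751.DSTors

/-!
# The group scheme `μ_p` over a field of characteristic `p`
-/

set_option autoImplicit false
universe u
open CategoryTheory CategoryTheory.Limits MonoidalCategory CartesianMonoidalCategory MonObj GrpObj AlgebraicGeometry

namespace Groth.Agent.Refuted.K616

section local_

variable (k : Type u) [Field k] (p : ℕ) [Fact p.Prime] [CharP k p]

/-- the augmentation -/
noncomputable def aug : MonoidAlgebra k (Multiplicative (ZMod p)) →ₐ[k] k :=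
  MonoidAlgebra.lift k k (Multiplicative (ZMod p)) 1

theorem sub_aug_mem (P : Ideal (MonoidAlgebra k (Multiplicative (ZMod p)))) [P.IsPrime]
    (x : MonoidAlgebra k (Multiplicative (ZMod p))) : x - algebraMap k _ (aug k p x) ∈ P := by
  have h1 (g : Multiplicative (ZMod p)) : MonoidAlgebra.of k _ g - 1 ∈ P := by
    have hp : CharP (MonoidAlgebra k (Multiplicative (ZMod p))) p :=
      charP_of_injective_algebraMap (algebraMap k (MonoidAlgebra k (Multiplicative (ZMod p)))).injective p
    have h : (MonoidAlgebra.of k (Multiplicative (ZMod p)) g - 1) ^ p = 0 := by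
      rw [sub_pow_char, one_pow, ← map_pow]
      have : g ^ p = 1 := by
        change Multiplicative.ofAdd (p • g.toAdd) = 1
        rw [nsmul_eq_mul, CharP.cast_eq_zero, zero_mul]; rfl
      rw [this, map_one, sub_self]
    exact ‹P.IsPrime›.mem_of_pow_mem p (h ▸ P.zero_mem)
  induction x using MonoidAlgebra.induction_on with
  | of g =>
    have : aug k p (MonoidAlgebra.of k _ g) = 1 := by
      simp [aug]
    rw [this, map_one]
    exact h1 g
  | add x y hx hy =>
    have : x + y - algebraMap k _ (aug k p (x + y)) =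
        (x - algebraMap k _ (aug k p x)) + (y - algebraMap k _ (aug k p y)) := by
      rw [map_add, map_add]; ring
    rw [this]
    exact P.add_mem hx hy
  | smul r x hx =>
    have : r • x - algebraMap k _ (aug k p (r • x)) = algebraMap k _ r * (x - algebraMap k _ (aug k p x)) := by
      rw [map_smul, smul_eq_mul, map_mul, mul_sub, Algebra.smul_def]
    rw [this]
    exact P.mul_mem_left _ hx

theorem subsingleton_spec : Subsingleton (PrimeSpectrum (MonoidAlgebra k (Multiplicative (ZMod p)))) := by
  have key : ∀ (P : PrimeSpectrum (MonoidAlgebra k (Multiplicative (ZMod p)))) x, x ∈ P.asIdeal ↔ aug k p x = 0 := by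
    intro P x
    have h := sub_aug_mem k p P.asIdeal x
    constructor
    · intro hx
      by_contra h0
      have h1 : algebraMap k (MonoidAlgebra k (Multiplicative (ZMod p))) (aug k p x) ∈ P.asIdeal := by
        have := P.asIdeal.sub_mem hx h
        rwa [sub_sub_cancel] at this
      exact P.isPrime.ne_top (Ideal.eq_top_of_isUnit_mem _ h1 ((isUnit_iff_ne_zero.2 h0).map _))
    · intro hx
      rw [hx, map_zero, sub_zero] at h
      exact h
  exact ⟨fun P Q => PrimeSpectrum.ext (Ideal.ext fun x => (key P x).trans (key Q x).symm)⟩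

instance subsingleton_diag : Subsingleton ↥(Red.diag k (ZMod p)).left := subsingleton_spec k p

end local_

/-- `μ_p = D(ℤ/p)` is the kernel of `p` on `𝔾_m`. -/
theorem exists_mu (k : Type u) [Field k] (p : ℕ) [Fact p.Prime] :
    ∃ (i : Red.diag k (ZMod p) ⟶ Red.Gm (Spec (CommRingCat.of k))) (_ : IsMonHom i),
      AlgGrp.IsKernel i ((𝟙 (Red.Gm (Spec (CommRingCat.of k)))) ^ p) := by
  let φ : ℤ →+ ZMod p := Int.castAddHom (ZMod p)
  have h := K751.DSTors.isKernel_DS (S := Spec (CommRingCat.of k)) φ (ZMod.intCast_surjective) p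
    (fun m => by simp [φ]) (fun m hm => by
      obtain ⟨c, hc⟩ := (ZMod.intCast_zmod_eq_zero_iff_dvd m p).1 hm
      exact ⟨c, by rw [hc, nsmul_eq_mul]⟩)
  let e := Groth.Agent.Sga3B.RG.BrDiag.diagTo k (ZMod p)
  have : IsIso e := Groth.Agent.Sga3B.RG.BrDiag.isIso_diagTo k (ZMod p)
  have : IsMonHom e := Groth.Agent.Sga3B.RG.BrDiag.isMonHom_diagTo k (ZMod p)
  have : IsMonHom (Red.DSmap (Spec (CommRingCat.of k)) φ) := by
    refine Groth.Agent.Sga3B.Pts.isMonHom_of_points _ fun X x y => ?_
    refine (Groth.Agent.Sga3B.DSPts.dsEquiv X ℤ).symm.injective ?_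
    change Groth.Agent.Sga3B.DSPts.dsChar _ = Groth.Agent.Sga3B.DSPts.dsChar _
    rw [Groth.Agent.Sga3B.DSPts.dsChar_DSmap, Groth.Agent.Sga3B.DSPts.dsChar_mul, Groth.Agent.Sga3B.DSPts.dsChar_mul,
      Groth.Agent.Sga3B.DSPts.dsChar_DSmap, Groth.Agent.Sga3B.DSPts.dsChar_DSmap]
    rfl
  refine ⟨e ≫ Red.DSmap (Spec (CommRingCat.of k)) φ, inferInstance, ?_⟩
  exact IsPullback.of_iso h (asIso e).symm (Iso.refl _) (Iso.refl _) (Iso.refl _)
    (by simp) (toUnit_unique _ _) (by simp) (by simp)

end Groth.Agent.Refuted.K616
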