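import Groth.Agent.Refuted.K616.Rigid
import Groth.Agent.Refuted.K616.HesseCurve
import Groth.Agent.Refuted.K616.Mu

/-!
# `μ₃` in an elliptic curve in characteristic three, from an action on the Hesse cubic
-/

set_option autoImplicit false
universe u
open CategoryTheory CategoryTheory.Limits MonoidalCategory CartesianMonoidalCategory MonObj GrpObj AlgebraicGeometry

namespace Groth.Agent.Refuted.K616

theorem exists_ell (k : Type u) [Field k] [Infinite k] [CharP k 3]
    (o : 𝟙_ (Over (Spec (CommRingCat.of k))) ⟶ C k) (a : AlgGrp.Action (Red.diag k (ZMod 3)) (C k))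
    (h : Mono (a.orbitMap o)) :
    ∃ (A : Over (Spec (CommRingCat.of k))) (_ : GrpObj A) (_ : IsCommMonObj A) (_ : IsProper A.hom)
      (_ : Smooth A.hom) (m : Red.diag k (ZMod 3) ⟶ A) (_ : IsMonHom m), Mono m := by
  obtain ⟨i1, i2, i3, -, -⟩ := P1a k
  obtain ⟨G, hG, hc⟩ := exists_grp k o
  have : Fact (Nat.Prime 3) := ⟨by norm_num⟩
  have i4 : GeometricallyConnected (C k).hom :=
    ⟨fun K _ y Z fst snd h => by
      have := i3.geometrically_irreducibleSpace y fst snd h
      infer_instance⟩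
  obtain ⟨ψ, hψ, h1, -⟩ := P2 k (Red.diag k (ZMod 3)) (C k) a
  refine ⟨C k, G, hc, i1, i2, ψ, hψ, ?_⟩
  rw [← h1]
  have h2 : η[C k] = o := hG
  rw [h2]
  exact h

end Groth.Agent.Refuted.K616
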