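import Groth.Prelude.Def_LefPen

/-!
# The Hesse cubic `X³ + Y³ + Z³ = XYZ` as a `k`-scheme (definition only)
-/

set_option autoImplicit false
universe u
open CategoryTheory AlgebraicGeometry

namespace Groth.Agent.Refuted.K616

/-- the Hesse form `X³ + Y³ + Z³ - XYZ` -/
noncomputable def hesse (k : Type u) [Field k] : LefPen.Form 2 k 3 :=
  ⟨MvPolynomial.X 0 ^ 3 + MvPolynomial.X 1 ^ 3 + MvPolynomial.X 2 ^ 3
    - MvPolynomial.X 0 * MvPolynomial.X 1 * MvPolynomial.X 2,
    (MvPolynomial.mem_homogeneousSubmodule 3 _).mpr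
      ((((MvPolynomial.isHomogeneous_X k (0 : Fin 3)).pow 3).add ((MvPolynomial.isHomogeneous_X k (1 : Fin 3)).pow 3)).add
        ((MvPolynomial.isHomogeneous_X k (2 : Fin 3)).pow 3) |>.sub
          (((MvPolynomial.isHomogeneous_X k (0 : Fin 3)).mul (MvPolynomial.isHomogeneous_X k (1 : Fin 3))).mul
            (MvPolynomial.isHomogeneous_X k (2 : Fin 3))))⟩

theorem hesse_val (k : Type u) [Field k] : (hesse k).1 =
    MvPolynomial.X 0 ^ 3 + MvPolynomial.X 1 ^ 3 + MvPolynomial.X 2 ^ 3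
      - MvPolynomial.X 0 * MvPolynomial.X 1 * MvPolynomial.X 2 := rfl

/-- the Hesse cubic `V_+(X³ + Y³ + Z³ - XYZ)` -/
noncomputable def C (k : Type u) [Field k] : Over (Spec (CommRingCat.of k)) :=
  Over.mk ((LefPen.hypIdeal (hesse k)).subschemeι ≫ CohB1.ProjSpace.toSpec 2 k)

end Groth.Agent.Refuted.K616
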