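import Groth.Agent.AbSch.K448.RigidityMain
import Groth.Agent.AbSch.K448.SmoothConn
import Groth.Agent.PRed.K205.SemiAct
import Groth.Agent.Sga3B.Pts
import Groth.Prelude.Def_AlgGrp

/-!
# An action of a one-point group scheme on an abelian variety is an action by translations
-/

set_option autoImplicit false
universe u
open CategoryTheory CategoryTheory.Limits MonoidalCategory CartesianMonoidalCategory MonObj GrpObj AlgebraicGeometry

namespace Groth.Agent.Refuted.K616

/-- An action of a one-point group scheme `M` on a smooth proper connected group scheme `E` over a field is given by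
translations through a homomorphism `M ⟶ E`, the orbit map of the unit. -/
theorem P2 (k : Type u) [Field k] (M E : Over (Spec (CommRingCat.of k))) [GrpObj M] [GrpObj E]
    [Subsingleton ↥M.left] [IsProper E.hom] [Smooth E.hom] [GeometricallyConnected E.hom]
    (a : AlgGrp.Action M E) :
    ∃ (ψ : M ⟶ E) (_ : IsMonHom ψ), a.orbitMap η[E] = ψ ∧
      ∀ (X : Over (Spec (CommRingCat.of k))) (z : X ⟶ M) (x : X ⟶ E), lift z x ≫ a.act = (z ≫ ψ) * x := by
  let h : M ⊗ E ⟶ E := a.act * (snd M E)⁻¹
  have hpb : IsPullback (snd M E).left (fst M E).left E.hom M.hom := by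
    exact (IsPullback.of_hasPullback M.hom E.hom).flip
  have : GeometricallyReduced E.hom := K448.SmoothConn.geometricallyReduced E.hom
  have i1 : IsProper (fst M E).left := MorphismProperty.of_isPullback hpb ‹IsProper E.hom›
  have i2 : Smooth (fst M E).left := MorphismProperty.of_isPullback hpb ‹Smooth E.hom›
  have i3 : GeometricallyConnected (fst M E).left := MorphismProperty.of_isPullback hpb ‹GeometricallyConnected E.hom›
  have i4 : GeometricallyReduced (fst M E).left := MorphismProperty.of_isPullback hpb ‹GeometricallyReduced E.hom›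
  -- the map `(1, id) : E ⟶ M ⊗ E` is surjective
  have hη : Surjective (η[M]).left := ⟨fun y => ⟨IsLocalRing.closedPoint k, Subsingleton.elim _ _⟩⟩
  have hs : Surjective (lift (1 : E ⟶ M) (𝟙 E)).left := by
    have hp : IsPullback (toUnit E) (lift (1 : E ⟶ M) (𝟙 E)) η[M] (fst M E) := by
      refine ⟨⟨by rw [lift_fst, Hom.one_def]⟩, ⟨PullbackCone.IsLimit.mk _ (fun s => s.snd ≫ snd M E)
        (fun s => toUnit_unique _ _) (fun s => ?_) (fun s m _ hm => ?_)⟩⟩
      · apply CartesianMonoidalCategory.hom_ext
        · rw [Category.assoc, Category.assoc, lift_fst, MonObj.comp_one, MonObj.comp_one, ← s.condition,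
            Hom.one_def, toUnit_unique s.fst (toUnit _)]
        · rw [Category.assoc, Category.assoc, lift_snd, Category.comp_id]
      · rw [← hm, Category.assoc, lift_snd, Category.comp_id]
    have hp' := hp.map (Over.forget _)
    exact MorphismProperty.of_isPullback hp' hη
  have he : lift (1 : E ⟶ M) (𝟙 E) ≫ h = 1 := by
    rw [MonObj.comp_mul, K205.SemiAct.one_act, GrpObj.comp_inv, lift_snd, mul_inv_cancel]
  obtain ⟨k', hk', -⟩ := K448.RigidityMain.existsUnique_factor (fst M E).left h.left (by
    intro t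
    rintro _ ⟨y, -, rfl⟩ _ ⟨y', -, rfl⟩
    obtain ⟨x, rfl⟩ := hs.surj y
    obtain ⟨x', rfl⟩ := hs.surj y'
    have he' : (lift (1 : E ⟶ M) (𝟙 E)).left ≫ h.left = (toUnit E).left ≫ (η[E]).left := by
      rw [← Over.comp_left, he, Hom.one_def, Over.comp_left]
    rw [← Scheme.Hom.comp_apply, ← Scheme.Hom.comp_apply, he', Scheme.Hom.comp_apply, Scheme.Hom.comp_apply]
    congr 1
    exact Subsingleton.elim (α := ↥(Spec (CommRingCat.of k))) _ _)
  -- `h` factors through the first projection
  let ψ : M ⟶ E := a.orbitMap η[E]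
  have hψ : lift (𝟙 M) (1 : M ⟶ E) ≫ h = ψ := by
    rw [MonObj.comp_mul, GrpObj.comp_inv, lift_snd, inv_one, _root_.mul_one]
    rfl
  have hh : h = fst M E ≫ ψ := by
    ext1
    have h1 : k' = ψ.left := by
      rw [← hψ, Over.comp_left, ← hk', ← Category.assoc, ← Over.comp_left, lift_fst, Over.id_left, Category.id_comp]
    rw [Over.comp_left, ← h1, hk']
  have hact : a.act = (fst M E ≫ ψ) * snd M E := by
    rw [← hh]
    exact (inv_mul_cancel_right a.act (snd M E)).symm
  have hpt (X : Over (Spec (CommRingCat.of k))) (z : X ⟶ M) (x : X ⟶ E) :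
      lift z x ≫ a.act = (z ≫ ψ) * x := by
    rw [hact, MonObj.comp_mul, lift_fst_assoc, lift_snd]
  refine ⟨ψ, Groth.Agent.Sga3B.Pts.isMonHom_of_points ψ fun X x y => ?_, rfl, hpt⟩
  have h1 (z : X ⟶ M) : z ≫ ψ = lift z (1 : X ⟶ E) ≫ a.act := by
    rw [hpt, _root_.mul_one]
  rw [h1 (x * y), ← K205.Core.act_act, hpt, ← h1]

end Groth.Agent.Refuted.K616
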