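import Groth.Prelude.Def_LieS
import Groth.Prelude.Def_SGA3x
import Groth.Prelude.Def_Red
import Groth.Prelude.Def_Red2
import Groth.Prelude.Def_AlgGrp
import Mathlib.Algebra.Lie.Rank
import Mathlib.AlgebraicGeometry.Morphisms.Smooth
import Mathlib.AlgebraicGeometry.Morphisms.QuasiCompact
import Mathlib.FieldTheory.IsAlgClosed.Basic

/-!
# The frozen statement of `S8381` as a proposition

The imports are those of `Groth/Statements/S8381.lean`, so that all instance paths are elaborated in the same way.
-/

set_option autoImplicit false
universe u
set_option linter.unusedVariables false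
open CategoryTheory MonoidalCategory CartesianMonoidalCategory MonObj GrpObj AlgebraicGeometry

namespace Groth.Agent.Refuted.S8381

/-- The frozen statement of `S8381` as a proposition. -/
def Stmt : Prop :=
  ∀ (k : Type u) [Field k] [Infinite k]
    (G : Over (Spec (CommRingCat.of k))) [GrpObj G] [Smooth G.hom] [QuasiCompact G.hom]
    (T : Over (Spec (CommRingCat.of k))) [GrpObj T] (i : T ⟶ G) [IsMonHom i] (hT : Red.IsMaximalTorus i)
    (L : Type u) [LieRing L] [LieAlgebra k L] [Module.Finite k L] (m : LieS.Model G k (Spec.map (CommRingCat.ofHom (algebraMap k k))) L),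
    ∃ w : ↥(LieS.LieR T k),
      LieAlgebra.IsRegular k (Multiplicative.toAdd (m.e.symm (LieS.map k (Spec.map (CommRingCat.ofHom (algebraMap k k))) i w)))

end Groth.Agent.Refuted.S8381
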